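import Cfsg.Agent.H461.E2.Fix
import Cfsg.Agent.H795.Core
import Cfsg.Agent.H319.One.Base

/-!
# The `r`-part of the centralisers of the elements of prime order (S4880, E2)

* `card_fixC` : `(Nat.card (fixC τ t)).factorization r = e * |{a > 0 : χ_a(t) = 1}|` for a frame automorphism `τ`
  fixing `t ∈ TT` (of prime order `≠ r`) and preserving the positive roots of `Sx t`;
* `card_centralizer` (`Setup`) : `(Nat.card (C_G(x))).factorization r = e * |{a > 0 : χ_a(t) = 1}|`, `z⁻¹ f(x) z = t ∈ TT`;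
* `ncard_eq` : if `Aut G` is transitive on the elements of order `p`, the number of the roots trivial on `x` is
  the same for all `x` of order `p`.
-/

set_option autoImplicit false
set_option linter.unusedSectionVars false

namespace Cfsg.Agent.H461.E2.Cent

open CoxeterSystem Cfsg Cfsg.Lie Cfsg.Lie.ChevalleyDatum
open Cfsg.Agent.ChevalleyStructure Cfsg.Agent.ChevalleyStructure.Elts Cfsg.Agent.ChevalleyStructure.CoxeterGeom
  Cfsg.Agent.ChevalleyStructure.CoxeterGeomTypes Cfsg.Agent.ChevalleyStructure.NPerm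
open Cfsg.Agent.Tits.Roots Cfsg.Agent.Tits.Core Cfsg.Agent.Nodes Cfsg.Agent.Nodes.Reps Cfsg.Agent.Nodes.BNOf
  Cfsg.Agent.Nodes.RGDChev Cfsg.Agent.Nodes.Bruhat Cfsg.Agent.Nodes.NormalForm
open Cfsg.Agent.KFacts.RgdField Cfsg.Agent.KFacts.RgdChevCoord
open Cfsg.Agent.BpExc Cfsg.Agent.BpExc.TorCent Cfsg.Agent.BpExc.TorChev Cfsg.Agent.BpExc.Tow
  Cfsg.Agent.BpExc.TowChev Cfsg.Agent.BpExc.Fr Cfsg.Agent.BpExc.Pair Cfsg.Agent.BpExc.LangFr Cfsg.Agent.GpExc.Field
  Cfsg.Agent.BpExc.NInst Cfsg.Agent.BpExc.NChev Cfsg.Agent.H461.E2.Sup Cfsg.Agent.H461.E2.Fix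
open scoped commutatorElement

universe u v

section

variable {D : ChevalleyDatum} {l : ℕ} {M : CoxeterMatrix (Fin l)} (hp : IsType D l M) {k : Type u} [Field k]
  {W : Type*} [Group W] (cs : CoxeterSystem M W)

/-- **The Sylow `r`-subgroup of `fixC τ t`.** -/
theorem exists_sylow [IsAlgClosed k] (hk : LocFin k) {r e q : ℕ} [Fact r.Prime] [CharP k r] (hq : q.Prime)
    (hqr : q ≠ r) {t : ↥(D.group k)} (ht : t ∈ TT D k) (htq : t ^ q = 1) (he : 0 < e) {τ : MulAut ↥(D.group k)}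
    (hτ : IsFrob r e τ) {g : (Fin l → ℤ) ≃+ (Fin l → ℤ)} (F : Fr cs hp.isCartan (TT D k) (XX D l k) τ g)
    (hτt : τ t = t) (hpos : ∀ a ∈ Sx cs hp.isCartan (ch hp) t, 0 ≤ a → 0 ≤ g a) [Finite ↥(fixC τ t)] :
    ∃ (E : Lev k) (P : Sylow r ↥(fixC τ t)), (P : Subgroup ↥(fixC τ t)) =
      (RGD.Sup (Xj hp E) (SP (Sx cs hp.isCartan (ch hp) t))).subgroupOf (fixC τ t) := by
  have := finite_W hp cs
  have H := tow (k := k) hp cs hk r
  have C := coordsL (k := k) hp cs hk r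
  have hA := chAddL (k := k) hp cs hk r
  have hG := GG_eq_top (k := k) hp cs hk
  have hTL := TL_eq (k := k) hp hk
  have hXL := XL_eq (k := k) hp hk
  have F' : Fr cs hp.isCartan (TL (Tj hp (k := k))) (XL (Xj hp (k := k))) τ g := by rw [hTL, hXL]; exact F
  have hsep : ∀ a, IsRoot cs hp.isCartan a → ∃ s ∈ TL (Tj hp (k := k)), ∀ u ∈ XL (Xj hp (k := k)) a,
      u * s = s * u → u = 1 := by
    rw [hTL, hXL]
    exact fun a ha => sep hp cs hk r ha
  -- the level
  obtain ⟨E1, hE1⟩ := HX.fr_level hp cs hk hτ F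
  obtain ⟨E2, hE2⟩ := HX.exists_fixed_level hp cs hk he hτ F
  obtain ⟨E3, hE3⟩ := exists_TT hp hk ht
  obtain ⟨E4, hE4⟩ := exists_level_finite hp hk (S := (fixC τ t : Set ↥(D.group k))) (Set.toFinite _)
  obtain ⟨E5, a1, a2⟩ := dir_lev hk E1 E2
  obtain ⟨E6, a3, a4⟩ := dir_lev hk E3 E4
  obtain ⟨E, b1, b2⟩ := dir_lev hk E5 E6
  have FE := hE1 E (a1.trans b1)
  have hX : ∀ a, Xj hp E a ≤ XX D l k a := fun a => by rw [← hXL]; exact le_XL E a
  have hT : Tj hp E ≤ TT D k := by rw [← hTL]; exact le_TL E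
  obtain ⟨t', ht', htt⟩ := hE3 E (a3.trans b2)
  have htE : t ∈ Tj hp E := ⟨t', ht', htt⟩
  have Dt : Dat (H.rgd E) t (Sx cs hp.isCartan (ch hp) t) τ g :=
    { mem := htE
      root := fun a ha => ha.1
      neg := fun a ha => chi_neg C ht hA ha
      cent := fun a ha => (hX a).trans (X_le_centralizer C ht ha)
      of_cent := fun a ha u hu hu1 hc => mem_Sx_of_centralizer C ht ha (hX a hu) hu1 hc
      fr := FE
      fix := hτt
      pos := hpos
      rp := fun w kk hkk => by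
        obtain ⟨w', hw'⟩ := rp_fr H hG hsep F' (H.rp_up hkk)
        obtain ⟨k0, h0, h0'⟩ := H.exists_rp w'
        have h1 : k0⁻¹ * τ kk ∈ TT D k := by
          rw [← hTL]
          exact h0'.unique hw'
        have h2 : k0⁻¹ * τ kk ∈ (emb hp.inList E.1.subtype).range := by
          rw [← GGj_eq hp cs]
          refine mul_mem (inv_mem ?_) (fr_GG FE ?_)
          · exact (mem_GG (H.rgd E)).2 ⟨w', cell_of_rp (h0 E)⟩
          · exact (mem_GG (H.rgd E)).2 ⟨w, cell_of_rp hkk⟩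
        have h3 : k0⁻¹ * τ kk ∈ Tj hp E := (HX.mem_Tj hp cs hk r).2 ⟨h1, h2⟩
        have e : τ kk = k0 * (k0⁻¹ * τ kk) := by group
        exact ⟨w', by rw [e]; exact (h0 E).mul_mem_right h3⟩
      comm := fun x hx y hy hxy hxy' a ha b hb => by
        have h1 := CommZ.comm_mem_Zj hp cs E hx.1 hy.1 hxy hxy' ha hb
        refine RGD.Sup_mono (S := CommZ.combZ cs hp x y) ?_ h1
        rintro z ⟨hz, i, j, hi, hj, e⟩
        obtain ⟨φ, h0, hadd, hφ⟩ := hA t ht
        have hn : ∀ (i : ℕ) (x : Fin l → ℤ), φ (i • x) = φ x ^ i := by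
          intro i x
          induction i with
          | zero => rw [zero_smul, pow_zero, h0]
          | succ i ih => rw [succ_nsmul, hadd, ih, pow_succ]
        refine ⟨⟨hz, ?_⟩, i, j, hi, hj, e⟩
        rw [hφ z hz, e, hadd, hn, hn, ← hφ x hx.1, ← hφ y hy.1, hx.2, hy.2, one_pow, one_pow, one_mul]
      fixed := fun a ha => hE2 E (a2.trans b1) a ha.1
      le := fun y hy => by
        rw [GGj_eq hp cs]
        exact hE4 E (a4.trans b2) hy }
  have C' : Coords cs hp.isCartan (TL (Tj hp (k := k))) (nc hp k) (XL (Xj hp (k := k))) (xc hp) (ch hp) := by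
    rw [hTL, hXL]; exact C
  have ht' : t ∈ TL (Tj hp (k := k)) := by rw [hTL]; exact ht
  have hchi : ∀ a, IsRoot cs hp.isCartan a → ch hp a t ^ q = 1 := by
    intro a ha
    have h0 : ch hp a (1 : ↥(D.group k)) = 1 := by
      have h1 := (C.coord a ha).chi_mul (one_mem (TT D k)) (one_mem _)
      rw [mul_one] at h1
      exact (mul_eq_left₀ ((C.coord a ha).chi_ne_zero (one_mem _))).1 h1.symm
    have h1 : ∀ m : ℕ, ch hp a (t ^ m) = ch hp a t ^ m := by
      intro m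
      induction m with
      | zero => rw [pow_zero, pow_zero, h0]
      | succ m ih => rw [pow_succ, pow_succ, (C.coord a ha).chi_mul (pow_mem ht m) ht, ih]
    rw [← h1, htq, h0]
  have hPP : ∀ w kk, Rp cs (H.rgd E).nsys w kk → kk ∈ Subgroup.centralizer {t} →
      (∀ a ∈ Sx cs hp.isCartan (ch hp) t, 0 ≤ a → 0 ≤ rep cs hp.isCartan w a) →
      w ∈ PP cs hp.isCartan (ch hp) t := by
    refine fun w kk hkk hkt hw => ⟨fun a ha => ?_, hw⟩
    have h1 := C'.chi_rp H.nsys (H.rp_up hkk) ha ht'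
    have h2 : kk * t * kk⁻¹ = t := by rw [Subgroup.mem_centralizer_singleton_iff.1 hkt]; group
    rwa [h2] at h1
  obtain ⟨⟨P, hP⟩, -⟩ := Dt.main (fun a ha b hb => TT_comm hp a (hT ha) b (hT hb)) hq hqr
    (PP cs hp.isCartan (ch hp) t) (isPGroup_PP hA ht hq hchi) hPP
  exact ⟨E, P, hP⟩

/-- the roots trivial on `t` are closed under integral combinations -/
theorem zcl_Sx {r : ℕ} [Fact r.Prime] [CharP k r] (hk : LocFin k) {t : ↥(D.group k)} (ht : t ∈ TT D k) :
    ZCl cs hp.isCartan (SP (Sx cs hp.isCartan (ch hp) t)) := by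
  have hA := chAddL (k := k) hp cs hk r
  rintro x ⟨hx, hx0⟩ y ⟨hy, hy0⟩ z hz ⟨i, j, hi, hj, e⟩
  obtain ⟨φ, h0, hadd, hφ⟩ := hA t ht
  have hn : ∀ (i : ℕ) (x : Fin l → ℤ), φ (i • x) = φ x ^ i := by
    intro i x
    induction i with
    | zero => rw [zero_smul, pow_zero, h0]
    | succ i ih => rw [succ_nsmul, hadd, ih, pow_succ]
  refine ⟨⟨hz, ?_⟩, ?_⟩
  · rw [hφ z hz, e, hadd, hn, hn, ← hφ x hx.1, ← hφ y hy.1, hx.2, hy.2, one_pow, one_pow, one_mul]
  · rw [e]
    exact add_nonneg (nsmul_nonneg hx0 i) (nsmul_nonneg hy0 j)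

/-- **The `r`-part of `fixC τ t`.** -/
theorem card_fixC [IsAlgClosed k] (hk : LocFin k) {r e q : ℕ} [Fact r.Prime] [CharP k r] (hq : q.Prime)
    (hqr : q ≠ r) {t : ↥(D.group k)} (ht : t ∈ TT D k) (htq : t ^ q = 1) (he : 0 < e) {τ : MulAut ↥(D.group k)}
    (hτ : IsFrob r e τ) {g : (Fin l → ℤ) ≃+ (Fin l → ℤ)} (F : Fr cs hp.isCartan (TT D k) (XX D l k) τ g)
    (hτt : τ t = t) (hpos : ∀ a ∈ Sx cs hp.isCartan (ch hp) t, 0 ≤ a → 0 ≤ g a) [Finite ↥(fixC τ t)] :
    (Nat.card ↥(fixC τ t)).factorization r = e * (SP (Sx cs hp.isCartan (ch hp) t)).ncard := by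
  have C := coordsL (k := k) hp cs hk r
  have hTL := TL_eq (k := k) hp hk
  have hXL := XL_eq (k := k) hp hk
  obtain ⟨E, P, hP⟩ := exists_sylow hp cs hk hq hqr ht htq he hτ F hτt hpos
  set Ψ := SP (Sx cs hp.isCartan (ch hp) t) with hΨ
  have hFS : ∀ a, g a ∈ Sx cs hp.isCartan (ch hp) t ↔ a ∈ Sx cs hp.isCartan (ch hp) t := by
    have C' : Coords cs hp.isCartan (TL (Tj hp (k := k))) (nc hp k) (XL (Xj hp (k := k))) (xc hp) (ch hp) := by
      rw [hTL, hXL]; exact C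
    have F' : Fr cs hp.isCartan (TL (Tj hp (k := k))) (XL (Xj hp (k := k))) τ g := by rw [hTL, hXL]; exact F
    exact fun a => F'.mem_Sx C' (by rw [hTL]; exact ht) hτt a
  have hcard := card_fix (hp := hp) (cs := cs) hk r he hτ F (Ψ := Ψ) (fun a ha => ⟨ha.1.1, ha.2⟩)
    (zcl_Sx (r := r) hp cs hk ht) (fun a ha => ⟨(hFS a).2 ha.1, hpos a ha.1 ha.2⟩)
  set V := RGD.Sup (XX D l k) Ψ ⊓ fixedSubgroup τ with hV
  have hVC : V ≤ fixC τ t := by
    intro u hu
    refine mem_fixC.2 ⟨hu.2, Subgroup.mem_centralizer_singleton_iff.1 ?_⟩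
    have h1 : RGD.Sup (XX D l k) Ψ ≤ Subgroup.centralizer {t} :=
      RGD.Sup_le fun a ha => X_le_centralizer C ht ha.1
    exact h1 hu.1
  have hVp : IsPGroup r ↥(V.subgroupOf (fixC τ t)) := by
    have h1 : IsPGroup r ↥V := IsPGroup.of_card (n := e * Ψ.ncard) (by rw [hcard, ← pow_mul])
    exact h1.comap_subtype
  have hPV : (P : Subgroup ↥(fixC τ t)) ≤ V.subgroupOf (fixC τ t) := by
    rw [hP]
    intro y hy
    rw [Subgroup.mem_subgroupOf] at hy ⊢
    have h1 : (y : ↥(D.group k)) ∈ RGD.Sup (XX D l k) Ψ := by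
      have h2 := Sup_le_SupL E Ψ hy
      rwa [hXL] at h2
    exact ⟨h1, (mem_fixC.1 y.2).1⟩
  have hPV' : V.subgroupOf (fixC τ t) = (P : Subgroup ↥(fixC τ t)) := P.3 hVp hPV
  have hc : Nat.card ↥(P : Subgroup ↥(fixC τ t)) = r ^ (e * Ψ.ncard) := by
    rw [← hPV', pow_mul, ← hcard]
    exact Nat.card_congr (Subgroup.subgroupOfEquivOfLe hVC).toEquiv
  rw [Sylow.card_eq_multiplicity] at hc
  exact Nat.pow_right_injective (Fact.out : r.Prime).two_le hc

/-- The number of the roots trivial on `t` is twice the number of the positive ones. -/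
theorem ncard_Sx {r : ℕ} [Fact r.Prime] [CharP k r] (hk : LocFin k) {t : ↥(D.group k)} (ht : t ∈ TT D k) :
    (Sx cs hp.isCartan (ch hp) t).ncard = 2 * (SP (Sx cs hp.isCartan (ch hp) t)).ncard := by
  have := finite_W hp cs
  have C := coordsL (k := k) hp cs hk r
  have hA := chAddL (k := k) hp cs hk r
  set S := Sx cs hp.isCartan (ch hp) t with hS
  have hfin : {a | IsRoot cs hp.isCartan a}.Finite := RGD.finite_roots (cs := cs) (h := hp.isCartan)
  have hneg : ∀ a ∈ S, -a ∈ S := fun a ha => chi_neg C ht hA ha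
  have h1 : S = SP S ∪ (fun a => -a) '' SP S := by
    ext a
    constructor
    · intro ha
      rcases ha.1.pos_or_neg with h0 | h0
      · exact Or.inl ⟨ha, h0⟩
      · exact Or.inr ⟨-a, ⟨hneg a ha, neg_nonneg.2 h0⟩, neg_neg a⟩
    · rintro (ha | ⟨b, hb, rfl⟩)
      · exact ha.1
      · exact hneg b hb.1
  have h2 : Disjoint (SP S) ((fun a => -a) '' SP S) := by
    rw [Set.disjoint_left]
    rintro _ ⟨h3, h4⟩ ⟨b, hb, rfl⟩
    exact hb.1.1.not_pos_neg hb.2 (neg_nonneg.1 h4)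
  have hf : (SP S).Finite := hfin.subset fun a ha => ha.1.1
  conv_lhs => rw [h1]
  rw [Set.ncard_union_eq h2 hf (hf.image _), Set.ncard_image_of_injective _ neg_injective]
  omega

/-- **The pair reduction with a given element of the torus.** -/
theorem exists_pair' [IsAlgClosed k] (hk : LocFin k) {r : ℕ} [Fact r.Prime] [CharP k r]
    {σ : MulAut ↥(D.group k)} {g : (Fin l → ℤ) ≃+ (Fin l → ℤ)} {e : ℕ} (he : 0 < e) (hσ : IsFrob r e σ)
    (Fσ : Fr cs hp.isCartan (TT D k) (XX D l k) σ g) {x : ↥(D.group k)}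
    (hσx : σ x = x) {z t : ↥(D.group k)} (hz : z⁻¹ * x * z = t) (ht : t ∈ TT D k) :
    ∃ (τ : MulAut ↥(D.group k)) (g' : (Fin l → ℤ) ≃+ (Fin l → ℤ)),
      IsFrob r e τ ∧ Fr cs hp.isCartan (TT D k) (XX D l k) τ g' ∧ τ t = t ∧
      (∀ a ∈ Sx cs hp.isCartan (ch hp) t, 0 ≤ a → 0 ≤ g' a) ∧
      Nonempty (↥(fixC τ t) ≃* ↥(fixC σ x)) := by
  have := finite_W hp cs
  have hTL := TL_eq hp hk
  have hXL := XL_eq hp hk
  have C := coordsL hp cs hk r
  have hA := chAddL hp cs hk r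
  have hG := GG_eq_top hp cs hk
  have Fσ' : Fr cs hp.isCartan (TL (Tj hp (k := k))) (XL (Xj hp (k := k))) σ g := by rw [hTL, hXL]; exact Fσ
  have ht' : t ∈ TL (Tj hp (k := k)) := by rw [hTL]; exact ht
  have C' : Coords cs hp.isCartan (TL (Tj hp (k := k))) (nc hp k) (XL (Xj hp (k := k))) (xc hp) (ch hp) := by
    rw [hTL, hXL]; exact C
  have hA' : ChAdd cs hp.isCartan (TL (Tj hp (k := k))) (ch (K := k) hp) := by rw [hTL]; exact hA
  obtain ⟨z', k', g', h1, h2, h3, h4, h5⟩ := pair_reduction (tow hp cs hk r) C' hA' hG Fσ' hσx (z := z) (t := t)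
    hz ht' (fun k' g' F' htt m hm => by
      have h1 := fun a => F'.mem_Sx C' ht' htt a
      rw [hTL, hXL] at F'
      rw [hXL] at hm ⊢
      exact lang_fr hp cs he (hσ.conj_mul k') F' (S := Sx cs hp.isCartan (ch hp) t) (fun a ha => ha.1)
        (fun a ha => (h1 a).2 ha) hm)
  rw [hTL, hXL] at h3
  exact ⟨MulAut.conj k' * σ, g', hσ.conj_mul k', h3, h4, h5, ⟨fixEquiv h1 h2⟩⟩

end

/-! ### `Setup` -/

section

open Cfsg.Agent.H795.Core

variable {D : ChevalleyDatum} {l : ℕ} {M : CoxeterMatrix (Fin l)} {hp : IsType D l M}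
  {k : Type u} [Field k] [IsAlgClosed k] (hk : LocFin k) {r : ℕ} [Fact r.Prime] [CharP k r]
  {G : Type v} [Group G] [Finite G] {p e : ℕ} {f : G →* ↥(D.group k)} {σ : MulAut ↥(D.group k)}
  {g : (Fin l → ℤ) ≃+ (Fin l → ℤ)}

/-- the centraliser in `G` and the centraliser in `Y^σ` have the same `r`-part -/
theorem card_centralizer_eq (h : Setup hp p r e f σ g) (x : G) [Finite ↥(fixC σ (f x))] :
    (Nat.card ↥(Subgroup.centralizer {x})).factorization r = (Nat.card ↥(fixC σ (f x))).factorization r := by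
  classical
  let F : ↥(Subgroup.centralizer {x}) →* ↥(fixC σ (f x)) :=
    { toFun := fun y => ⟨f y, mem_fixC.2 ⟨h.fix y, by
        rw [← map_mul, ← map_mul, Subgroup.mem_centralizer_singleton_iff.1 y.2]⟩⟩
      map_one' := Subtype.ext (map_one f)
      map_mul' := fun a b => Subtype.ext (map_mul f a.1 b.1) }
  have hF : Function.Injective F := fun a b hab => by
    apply Subtype.ext
    apply h.inj
    exact congrArg (fun z : ↥(fixC σ (f x)) => (z : ↥(D.group k))) hab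
  have h1 : Nat.card ↥(Subgroup.centralizer {x}) ∣ Nat.card ↥(fixC σ (f x)) := Subgroup.card_dvd_of_injective F hF
  obtain ⟨P⟩ : Nonempty (Sylow r ↥(fixC σ (f x))) := inferInstance
  have h2 : (P : Subgroup ↥(fixC σ (f x))) ≤ F.range := by
    intro y hy
    obtain ⟨j, hj⟩ := P.2 ⟨y, hy⟩
    have hj' : (y : ↥(D.group k)) ^ r ^ j = 1 := congrArg (fun z : ↥(fixC σ (f x)) => (z : ↥(D.group k)))
      (congrArg Subtype.val hj)
    obtain ⟨u, hu⟩ := h.r_mem y (mem_fixC.1 y.2).1 ⟨j, hj'⟩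
    refine ⟨⟨u, ?_⟩, Subtype.ext hu⟩
    rw [Subgroup.mem_centralizer_singleton_iff]
    apply h.inj
    rw [map_mul, map_mul, hu]
    exact (mem_fixC.1 y.2).2
  have h3 : Nat.card ↥(P : Subgroup ↥(fixC σ (f x))) ∣ Nat.card ↥(Subgroup.centralizer {x}) := by
    have h4 := Subgroup.card_dvd_of_le h2
    rwa [← Nat.card_congr (MonoidHom.ofInjective hF).toEquiv] at h4
  rw [Sylow.card_eq_multiplicity] at h3
  apply le_antisymm
  · exact (Nat.factorization_le_iff_dvd Nat.card_pos.ne' Nat.card_pos.ne').2 h1 r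
  · exact ((Fact.out : r.Prime).pow_dvd_iff_le_factorization Nat.card_pos.ne').1 h3

include hk in
/-- **The `r`-part of the centraliser of an element of prime order.** -/
theorem card_centralizer (h : Setup hp p r e f σ g) {q : ℕ} (hq : q.Prime) (hqr : q ≠ r) {x : G} (hx : x ^ q = 1)
    {z t : ↥(D.group k)} (hz : z⁻¹ * f x * z = t) (ht : t ∈ TT D k) :
    (Nat.card ↥(Subgroup.centralizer {x})).factorization r =
      e * {a | IsRoot M.toCoxeterSystem hp.isCartan a ∧ ch hp a t = 1 ∧ 0 ≤ a}.ncard := by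
  have hfin : Finite ↥(fixC σ (f x)) := by
    have := h.fin
    exact Finite.of_injective (fun y : ↥(fixC σ (f x)) => (⟨y.1, (mem_fixC.1 y.2).1⟩ : {y : ↥(D.group k) // σ y = y}))
      (fun a b hab => Subtype.ext (congrArg (fun z : {y : ↥(D.group k) // σ y = y} => z.1) hab))
  obtain ⟨τ, g', h1, h2, h3, h4, ⟨E⟩⟩ := exists_pair' hp M.toCoxeterSystem hk h.e_pos h.frob h.fr (h.fix x) hz ht
  have hfin' : Finite ↥(fixC τ t) := Finite.of_equiv _ E.symm.toEquiv
  have htq : t ^ q = 1 := by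
    have e1 : t = z⁻¹ * f x * z⁻¹⁻¹ := by rw [inv_inv, hz]
    rw [e1, conj_pow, ← map_pow, hx, map_one, mul_one, inv_inv, inv_mul_cancel]
  rw [card_centralizer_eq h, ← Nat.card_congr E.toEquiv,
    card_fixC hp M.toCoxeterSystem hk hq hqr ht htq h.e_pos h1 h2 h3 h4]
  congr 2
  ext a
  constructor
  · rintro ⟨⟨ha, hb⟩, hc⟩
    exact ⟨ha, hb, hc⟩
  · rintro ⟨ha, hb, hc⟩
    exact ⟨⟨ha, hb⟩, hc⟩

include hk in
/-- The same with the number of all roots trivial on `t`. -/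
theorem two_mul_factorization (h : Setup hp p r e f σ g) {q : ℕ} (hq : q.Prime) (hqr : q ≠ r) {x : G}
    (hx : x ^ q = 1) {z t : ↥(D.group k)} (hz : z⁻¹ * f x * z = t) (ht : t ∈ TT D k) :
    2 * (Nat.card ↥(Subgroup.centralizer {x})).factorization r =
      e * {a | IsRoot M.toCoxeterSystem hp.isCartan a ∧ ch hp a t = 1}.ncard := by
  rw [card_centralizer hk h hq hqr hx hz ht]
  have h1 := ncard_Sx (r := r) hp M.toCoxeterSystem hk ht
  have h2 : SP (Sx M.toCoxeterSystem hp.isCartan (ch hp) t) =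
      {a | IsRoot M.toCoxeterSystem hp.isCartan a ∧ ch hp a t = 1 ∧ 0 ≤ a} := by
    ext a
    constructor
    · rintro ⟨⟨ha, hb⟩, hc⟩
      exact ⟨ha, hb, hc⟩
    · rintro ⟨ha, hb, hc⟩
      exact ⟨⟨ha, hb⟩, hc⟩
  rw [h2] at h1
  have h3 : (Sx M.toCoxeterSystem hp.isCartan (ch hp) t) =
      {a | IsRoot M.toCoxeterSystem hp.isCartan a ∧ ch hp a t = 1} := rfl
  rw [← h3, h1]
  ring

include hk in
/-- **If `Aut G` is transitive on the elements of order `p`, then the number of the roots trivial on `x` is the same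
for all elements `x` of order `p`.** -/
theorem ncard_eq (h : Setup hp p r e f σ g) (hpp : p.Prime) (hpr : p ≠ r) (hone : H319.One.OneAut p G) {x y : G}
    (hx : orderOf x = p) (hy : orderOf y = p) {z t z' t' : ↥(D.group k)} (hz : z⁻¹ * f x * z = t) (ht : t ∈ TT D k)
    (hz' : z'⁻¹ * f y * z' = t') (ht' : t' ∈ TT D k) :
    {a | IsRoot M.toCoxeterSystem hp.isCartan a ∧ ch hp a t = 1}.ncard =
      {a | IsRoot M.toCoxeterSystem hp.isCartan a ∧ ch hp a t' = 1}.ncard := by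
  have h1 := two_mul_factorization hk h hpp hpr (by rw [← hx]; exact pow_orderOf_eq_one x) hz ht
  have h2 := two_mul_factorization hk h hpp hpr (by rw [← hy]; exact pow_orderOf_eq_one y) hz' ht'
  rw [hone.card_centralizer hx hy, h2] at h1
  exact (Nat.eq_of_mul_eq_mul_left h.e_pos h1).symm

end

end Cfsg.Agent.H461.E2.Cent
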