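import Cfsg.Agent.H461.E2.Sup
import Cfsg.Prelude.Def_EvenType

/-!
# The fixed points of a frame automorphism in a unipotent group (S4880, E2)

`D.group k`, `k` locally finite, algebraically closed of characteristic `r`; `τ` a frame automorphism (for `g`),
`IsFrob r e τ`, `e > 0`; `Ψ` a `g`-invariant set of positive roots, closed under integral combinations:
`card_fix` : `|(Sup X Ψ)^τ| = (r ^ e) ^ |Ψ|`.
-/

set_option autoImplicit false
set_option linter.unusedSectionVars false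

namespace Cfsg.Agent.H461.E2.Fix

open CoxeterSystem Cfsg Cfsg.Lie Cfsg.Lie.ChevalleyDatum
open Cfsg.Agent.ChevalleyStructure Cfsg.Agent.ChevalleyStructure.Elts Cfsg.Agent.ChevalleyStructure.CoxeterGeom
  Cfsg.Agent.ChevalleyStructure.CoxeterGeomTypes Cfsg.Agent.ChevalleyStructure.NPerm
open Cfsg.Agent.Tits.Roots Cfsg.Agent.Tits.Core Cfsg.Agent.Nodes Cfsg.Agent.Nodes.Reps Cfsg.Agent.Nodes.BNOf
  Cfsg.Agent.Nodes.RGDChev Cfsg.Agent.Nodes.Bruhat Cfsg.Agent.Nodes.NormalForm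
open Cfsg.Agent.KFacts.RgdField Cfsg.Agent.KFacts.RgdChevCoord
open Cfsg.Agent.BpExc Cfsg.Agent.BpExc.TorCent Cfsg.Agent.BpExc.TorChev Cfsg.Agent.BpExc.Tow
  Cfsg.Agent.BpExc.TowChev Cfsg.Agent.BpExc.Fr Cfsg.Agent.BpExc.Pair Cfsg.Agent.BpExc.LangFr Cfsg.Agent.GpExc.Field
  Cfsg.Agent.BpExc.NInst Cfsg.Agent.H461.E2.Sup
open scoped commutatorElement

universe u

/-! ### the fixed points in the field -/

theorem card_frob {k : Type u} [Field k] [IsAlgClosed k] {r : ℕ} [Fact r.Prime] [CharP k r] {s : ℕ} (hs : 0 < s) :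
    Nat.card {t : k // t ^ r ^ s = t} = r ^ s := by
  classical
  have hr1 : 1 < r := (Fact.out : r.Prime).one_lt
  have hQ : 1 < r ^ s := Nat.one_lt_pow hs.ne' hr1
  let P : Polynomial k := Polynomial.X ^ r ^ s - Polynomial.X
  have hP0 : P ≠ 0 := FiniteField.X_pow_card_pow_sub_X_ne_zero k hs.ne' hr1
  have hdeg : P.natDegree = r ^ s := FiniteField.X_pow_card_pow_sub_X_natDegree_eq k hs.ne' hr1
  have hsep : P.Separable := galois_poly_separable r (r ^ s) (dvd_pow_self r hs.ne')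
  have h1 : Fintype.card (P.rootSet k) = P.natDegree :=
    Polynomial.card_rootSet_eq_natDegree hsep (IsAlgClosed.splits _)
  rw [hdeg] at h1
  refine Eq.trans ?_ h1
  rw [← Nat.card_eq_fintype_card]
  refine Nat.card_congr (Equiv.subtypeEquivRight fun t => ?_)
  rw [Polynomial.mem_rootSet]
  constructor
  · intro ht
    exact ⟨hP0, by simp [P, ht]⟩
  · rintro ⟨-, ht⟩
    simpa [P, sub_eq_zero] using ht

theorem card_twist {k : Type u} [Field k] [IsAlgClosed k] {r : ℕ} [Fact r.Prime] [CharP k r] {s : ℕ} (hs : 0 < s)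
    {c : k} (hc : c ≠ 0) : Nat.card {t : k // c * t ^ r ^ s = t} = r ^ s := by
  have hr1 : 1 < r := (Fact.out : r.Prime).one_lt
  have hQ : 1 < r ^ s := Nat.one_lt_pow hs.ne' hr1
  obtain ⟨d, hd⟩ := IsAlgClosed.exists_pow_nat_eq c (n := r ^ s - 1) (by omega)
  have hd0 : d ≠ 0 := by
    rintro rfl
    rw [zero_pow (by omega)] at hd
    exact hc hd.symm
  have hdQ : d ^ r ^ s = d * c := by
    obtain ⟨n, hn⟩ : ∃ n, r ^ s = n + 1 := ⟨r ^ s - 1, by omega⟩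
    rw [hn] at hd ⊢
    rw [Nat.add_sub_cancel] at hd
    rw [pow_succ, hd, mul_comm]
  refine Eq.trans ?_ (card_frob (k := k) (r := r) hs)
  refine Nat.card_congr ((Equiv.mulLeft₀ d hd0).subtypeEquiv fun t => ?_)
  show c * t ^ r ^ s = t ↔ (d * t) ^ r ^ s = d * t
  rw [mul_pow, hdQ, mul_assoc, mul_right_inj' hd0]

/-! ### uniqueness in the limit -/

variable {D : ChevalleyDatum} {l : ℕ} {M : CoxeterMatrix (Fin l)} (hp : IsType D l M) {k : Type u} [Field k]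
  {W : Type*} [Group W] (cs : CoxeterSystem M W) (hk : LocFin k) (r : ℕ) [Fact r.Prime] [CharP k r]

theorem zcomm : ZComm cs hp.isCartan (XX D l k) := fun _ _ hx hy hxy hxy' _ ha _ hb =>
  CommZ.comm_mem_Z hp cs hx hy hxy hxy' ha hb

theorem zcomm_lev (E : Lev k) : ZComm cs hp.isCartan (Xj hp E) := fun _ _ hx hy hxy hxy' _ ha _ hb =>
  CommZ.comm_mem_Zj hp cs E hx hy hxy hxy' ha hb

include cs in
theorem card_Xj (E : Lev k) {a : Fin l → ℤ} (ha : IsRoot cs hp.isCartan a) :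
    Nat.card ↥(Xj hp E a) = Nat.card ↥E.1 := by
  obtain ⟨s, hs, rfl⟩ := (isRoot_iff hp cs a).1 ha
  symm
  refine Nat.card_congr (Equiv.ofBijective
    (fun t : ↥E.1 => (⟨xc hp (vec D l s) t, (HX.mem_Xj hp hs).2 ⟨t, t.2, rfl⟩⟩ : ↥(Xj hp E (vec D l s)))) ⟨?_, ?_⟩)
  · intro t t' e
    exact Subtype.ext (xc_inj hp hs (congrArg Subtype.val e))
  · rintro ⟨y, hy⟩
    obtain ⟨t, ht, rfl⟩ := (HX.mem_Xj hp hs).1 hy
    exact ⟨⟨t, ht⟩, rfl⟩

theorem finite_Supj (E : Lev k) (S : Set (Fin l → ℤ)) (hS : ∀ a ∈ S, IsRoot cs hp.isCartan a) :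
    Finite ↥(RGD.Sup (Xj hp E) S) := by
  have := finite_GG hp cs E
  have h1 : RGD.Sup (Xj hp E) S ≤ GG cs hp.isCartan (Tj hp E) (Xj hp E) :=
    RGD.Sup_le fun a ha => X_le_GG (hS a ha)
  exact Finite.of_injective (Subgroup.inclusion h1) (Subgroup.inclusion_injective _)

include hk r in
/-- **Uniqueness of the lowest component, in the limit.** -/
theorem inf_eq_bot {Ψ : Set (Fin l → ℤ)} (hP : Ψ ⊆ RGD.Pos cs hp.isCartan)
    (hΨ : ZCl cs hp.isCartan Ψ) {φ : (Fin l → ℤ) →+ ℤ} (hφ : ∀ a ∈ Ψ, 0 < φ a) {b : Fin l → ℤ} (hbΨ : b ∈ Ψ)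
    (hb : ∀ a ∈ Ψ, φ b ≤ φ a) : XX D l k b ⊓ RGD.Sup (XX D l k) (Ψ \ {b}) = ⊥ := by
  have := finite_W hp cs
  have H := tow (k := k) hp cs hk r
  rw [eq_bot_iff]
  rintro y ⟨h1, h2⟩
  rw [SetLike.mem_coe] at h1 h2
  rw [← XL_eq hp hk] at h1 h2
  obtain ⟨E1, h1'⟩ := H.mem_XL.1 h1
  obtain ⟨E2, h2'⟩ := H.mem_Sup.1 h2
  obtain ⟨E, a1, a2⟩ := H.dir E1 E2
  have h3 : y ∈ Xj hp E b := H.monoX b a1 h1'
  have h4 : y ∈ RGD.Sup (Xj hp E) (Ψ \ {b}) := H.mono_Sup _ a2 h2'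
  have h5 := Sup.inf_eq_bot (H.rgd E) (fun a ha => card_Xj hp cs E ha)
    (finite_Supj hp cs E (RGD.Pos cs hp.isCartan) fun a ha => ha.1) (zcomm_lev hp cs E) hP hΨ hφ hbΨ hb
  rw [← h5]
  exact ⟨h3, h4⟩

/-! ### consequences -/

section Cons

variable {Ψ : Set (Fin l → ℤ)} (hP : Ψ ⊆ RGD.Pos cs hp.isCartan) (hΨ : ZCl cs hp.isCartan Ψ)
  {φ : (Fin l → ℤ) →+ ℤ} (hφ : ∀ a ∈ Ψ, 0 < φ a)

theorem zcl_diff {O : Set (Fin l → ℤ)} (hΨ : ZCl cs hp.isCartan Ψ) (hφ : ∀ a ∈ Ψ, 0 < φ a)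
    (hO : ∀ b ∈ O, ∀ a ∈ Ψ, φ b ≤ φ a) : ZCl cs hp.isCartan (Ψ \ O) := by
  rintro x ⟨hx, hxb⟩ y ⟨hy, hyb⟩ z hz ⟨i, j, hi, hj, rfl⟩
  refine ⟨hΨ x hx y hy _ hz ⟨i, j, hi, hj, rfl⟩, fun e => ?_⟩
  have h1 := lt_comb (hφ x hx) (hφ y hy) hi hj
  exact absurd (hO _ e x hx) (not_le.2 h1)

include hk r hP hΨ hφ in
/-- **The intersection.** -/
theorem mem_of_forall {O : Set (Fin l → ℤ)} (hO : O ⊆ Ψ) (hOf : O.Finite) (hOm : ∀ b ∈ O, ∀ a ∈ Ψ, φ b ≤ φ a)
    {u : ↥(D.group k)} (hu : u ∈ RGD.Sup (XX D l k) Ψ) (h : ∀ b ∈ O, u ∈ RGD.Sup (XX D l k) (Ψ \ {b})) :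
    u ∈ RGD.Sup (XX D l k) (Ψ \ O) := by
  induction O, hOf using Set.Finite.induction_on with
  | empty => rwa [Set.sdiff_empty]
  | @insert b O hbO hOf ih =>
    have h1 := ih (fun x hx => hO (Set.mem_insert_of_mem b hx)) (fun x hx => hOm x (Set.mem_insert_of_mem b hx))
      (fun x hx => h x (Set.mem_insert_of_mem b hx))
    have hbΨ : b ∈ Ψ := hO (Set.mem_insert b O)
    have hsub : Ψ \ O ⊆ Ψ := Set.sdiff_subset
    have hcl : ZCl cs hp.isCartan (Ψ \ O) := zcl_diff hp cs hΨ hφ fun x hx => hOm x (Set.mem_insert_of_mem b hx)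
    obtain ⟨x, hx, v, hv, e⟩ := mem_peel (zcomm hp cs) (fun a ha => (hP (hsub ha)).1) hcl
      (fun a ha => hφ a (hsub ha)) (b := b) ⟨hbΨ, hbO⟩ (fun a ha => hOm b (Set.mem_insert b O) a (hsub ha)) h1
    have hv' : v ∈ RGD.Sup (XX D l k) (Ψ \ {b}) := RGD.Sup_mono (Set.sdiff_subset_sdiff_left hsub) hv
    have hx1 : x ∈ XX D l k b ⊓ RGD.Sup (XX D l k) (Ψ \ {b}) := by
      refine ⟨hx, ?_⟩
      have e1 : x = u * v⁻¹ := by rw [e]; group
      rw [e1]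
      exact Subgroup.mul_mem _ (h b (Set.mem_insert b O)) (Subgroup.inv_mem _ hv')
    rw [inf_eq_bot hp cs hk r hP hΨ hφ hbΨ (hOm b (Set.mem_insert b O)), Subgroup.mem_bot] at hx1
    rw [e, hx1, one_mul]
    have e2 : Ψ \ insert b O = (Ψ \ O) \ {b} := by
      ext x
      constructor
      · rintro ⟨h1, h2⟩
        exact ⟨⟨h1, fun h3 => h2 (Set.mem_insert_of_mem b h3)⟩, fun h3 => h2 (by
          rw [Set.mem_singleton_iff] at h3
          rw [h3]; exact Set.mem_insert b O)⟩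
      · rintro ⟨⟨h1, h2⟩, h3⟩
        refine ⟨h1, fun h4 => ?_⟩
        rcases h4 with h4 | h4
        · exact h3 h4
        · exact h2 h4
    rw [e2]
    exact hv

theorem XX_comm (cs : CoxeterSystem M W) {b : Fin l → ℤ} (hb : IsRoot cs hp.isCartan b) {x y : ↥(D.group k)}
    (hx : x ∈ XX D l k b) (hy : y ∈ XX D l k b) : x * y = y * x := by
  obtain ⟨s, hs, rfl⟩ := (isRoot_iff hp cs b).1 hb
  obtain ⟨t, rfl⟩ := (HX.mem_XX_xc hp hs).1 hx
  obtain ⟨t', rfl⟩ := (HX.mem_XX_xc hp hs).1 hy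
  apply Subtype.ext
  rw [Subgroup.coe_mul, Subgroup.coe_mul, coe_xc hp hs, coe_xc hp hs, xG_add, xG_add, add_comm]

include hP hΨ hφ in
/-- the quotient by `Sup X (Ψ \ {b})` is commutative -/
theorem comm_mem {b : Fin l → ℤ} (hbΨ : b ∈ Ψ) (hb : ∀ a ∈ Ψ, φ b ≤ φ a) {u v : ↥(D.group k)}
    (hu : u ∈ RGD.Sup (XX D l k) Ψ) (hv : v ∈ RGD.Sup (XX D l k) Ψ) :
    (v * u)⁻¹ * (u * v) ∈ RGD.Sup (XX D l k) (Ψ \ {b}) := by
  obtain ⟨x1, hx1, v1, hv1, rfl⟩ := mem_peel (zcomm hp cs) (fun a ha => (hP ha).1) hΨ hφ hbΨ hb hu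
  obtain ⟨x2, hx2, v2, hv2, rfl⟩ := mem_peel (zcomm hp cs) (fun a ha => (hP ha).1) hΨ hφ hbΨ hb hv
  have hn := le_normalizer (zcomm (k := k) hp cs) (fun a ha => (hP ha).1) hΨ hφ hbΨ hb
  have h1 : x2⁻¹ * v1 * x2 ∈ RGD.Sup (XX D l k) (Ψ \ {b}) := by
    have := (Subgroup.mem_normalizer_iff.1 (inv_mem (hn hx2)) v1).1 hv1
    rwa [inv_inv] at this
  have h2 : x1⁻¹ * v2 * x1 ∈ RGD.Sup (XX D l k) (Ψ \ {b}) := by
    have := (Subgroup.mem_normalizer_iff.1 (inv_mem (hn hx1)) v2).1 hv2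
    rwa [inv_inv] at this
  have hc := XX_comm hp cs (hP hbΨ).1 hx1 hx2
  have e : (x2 * v2 * (x1 * v1))⁻¹ * (x1 * v1 * (x2 * v2)) =
      (x1⁻¹ * v2 * x1 * v1)⁻¹ * ((x2 * x1)⁻¹ * (x1 * x2)) * (x2⁻¹ * v1 * x2 * v2) := by group
  rw [e, hc, inv_mul_cancel, mul_one]
  exact mul_mem (inv_mem (mul_mem h2 hv1)) (mul_mem h1 hv2)

end Cons

/-! ### the coordinate of the lowest root -/

section Coordinate

variable {Ψ : Set (Fin l → ℤ)} (hP : Ψ ⊆ RGD.Pos cs hp.isCartan) (hΨ : ZCl cs hp.isCartan Ψ)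
  {φ : (Fin l → ℤ) →+ ℤ} (hφ : ∀ a ∈ Ψ, 0 < φ a) {b : Fin l → ℤ} (hbΨ : b ∈ Ψ) (hb : ∀ a ∈ Ψ, φ b ≤ φ a)

theorem xc_add {b : Fin l → ℤ} (hb : IsRoot cs hp.isCartan b) (s t : k) :
    xc hp b (s + t) = xc hp b s * xc hp b t := by
  obtain ⟨j, hj, rfl⟩ := (isRoot_iff hp cs b).1 hb
  apply Subtype.ext
  rw [Subgroup.coe_mul, coe_xc hp hj, coe_xc hp hj, coe_xc hp hj, xG_add]

theorem xc_mem {b : Fin l → ℤ} (hb : IsRoot cs hp.isCartan b) (s : k) : xc hp b s ∈ XX D l k b := by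
  obtain ⟨j, hj, rfl⟩ := (isRoot_iff hp cs b).1 hb
  exact (HX.mem_XX_xc hp hj).2 ⟨s, rfl⟩

theorem exists_xc {b : Fin l → ℤ} (hb : IsRoot cs hp.isCartan b) {y : ↥(D.group k)} (hy : y ∈ XX D l k b) :
    ∃ s : k, y = xc hp b s := by
  obtain ⟨j, hj, rfl⟩ := (isRoot_iff hp cs b).1 hb
  exact (HX.mem_XX_xc hp hj).1 hy

theorem xc_injective {b : Fin l → ℤ} (hb : IsRoot cs hp.isCartan b) : Function.Injective (xc (K := k) hp b) := by
  obtain ⟨j, hj, rfl⟩ := (isRoot_iff hp cs b).1 hb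
  exact xc_inj hp hj

include hP hΨ hφ hbΨ hb in
theorem exists_coord {u : ↥(D.group k)} (hu : u ∈ RGD.Sup (XX D l k) Ψ) :
    ∃ t : k, (xc hp b t)⁻¹ * u ∈ RGD.Sup (XX D l k) (Ψ \ {b}) := by
  obtain ⟨x, hx, v, hv, rfl⟩ := mem_peel (zcomm hp cs) (fun a ha => (hP ha).1) hΨ hφ hbΨ hb hu
  obtain ⟨t, rfl⟩ := exists_xc hp cs (hP hbΨ).1 hx
  exact ⟨t, by rwa [inv_mul_cancel_left]⟩

include hk r hP hΨ hφ hbΨ hb in
theorem coord_unique {u : ↥(D.group k)} {t t' : k}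
    (h1 : (xc hp b t)⁻¹ * u ∈ RGD.Sup (XX D l k) (Ψ \ {b}))
    (h2 : (xc hp b t')⁻¹ * u ∈ RGD.Sup (XX D l k) (Ψ \ {b})) : t = t' := by
  have hbr := (hP hbΨ).1
  have h3 : (xc hp b t')⁻¹ * xc hp b t ∈ XX D l k b ⊓ RGD.Sup (XX D l k) (Ψ \ {b}) := by
    refine ⟨Subgroup.mul_mem _ (Subgroup.inv_mem _ (xc_mem hp cs hbr t')) (xc_mem hp cs hbr t), ?_⟩
    have e : (xc hp b t')⁻¹ * xc hp b t = ((xc hp b t')⁻¹ * u) * ((xc hp b t)⁻¹ * u)⁻¹ := by group
    rw [e]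
    exact Subgroup.mul_mem _ h2 (Subgroup.inv_mem _ h1)
  rw [inf_eq_bot hp cs hk r hP hΨ hφ hbΨ hb, Subgroup.mem_bot, inv_mul_eq_one] at h3
  exact (xc_injective hp cs hbr h3).symm

include hP hΨ hφ hbΨ hb in
theorem coord_mul {u v : ↥(D.group k)} {t t' : k} (h1 : (xc hp b t)⁻¹ * u ∈ RGD.Sup (XX D l k) (Ψ \ {b}))
    (h2 : (xc hp b t')⁻¹ * v ∈ RGD.Sup (XX D l k) (Ψ \ {b})) :
    (xc hp b (t + t'))⁻¹ * (u * v) ∈ RGD.Sup (XX D l k) (Ψ \ {b}) := by
  have hbr := (hP hbΨ).1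
  have hn := le_normalizer (zcomm (k := k) hp cs) (fun a ha => (hP ha).1) hΨ hφ hbΨ hb
  have h3 := (Subgroup.mem_normalizer_iff.1 (inv_mem (hn (xc_mem hp cs hbr t'))) _).1 h1
  rw [inv_inv] at h3
  have e : (xc hp b (t + t'))⁻¹ * (u * v) =
      ((xc hp b t')⁻¹ * ((xc hp b t)⁻¹ * u) * xc hp b t') * ((xc hp b t')⁻¹ * v) := by
    rw [xc_add hp cs hbr]; group
  rw [e]
  exact mul_mem h3 h2

end Coordinate

/-! ### the fixed points -/

section Fixed

variable {cs} {e : ℕ} {τ : MulAut ↥(D.group k)} {g : (Fin l → ℤ) ≃+ (Fin l → ℤ)}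

/-- the functional `fh` -/
def fhHom (g : (Fin l → ℤ) ≃+ (Fin l → ℤ)) (N : ℕ) : (Fin l → ℤ) →+ ℤ :=
  AddMonoidHom.mk' (fh g N) fun a b => by
    have := fh_comb (g := g) N 1 1 a b
    rw [one_smul, one_smul, Nat.cast_one, one_mul, one_mul] at this
    exact this

theorem fhHom_apply (N : ℕ) (a : Fin l → ℤ) : fhHom g N a = fh g N a := rfl

variable {hp}

theorem iter_iff (F : Fr cs hp.isCartan (TT D k) (XX D l k) τ g) {Ψ : Set (Fin l → ℤ)}
    (hr : ∀ a ∈ Ψ, IsRoot cs hp.isCartan a) (hg : ∀ a ∈ Ψ, g a ∈ Ψ) [Finite W] (a : Fin l → ℤ) :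
    g a ∈ Ψ ↔ a ∈ Ψ := by
  refine ⟨fun h => ?_, hg a⟩
  obtain ⟨N, hN, hNg⟩ := exists_period F
  have h1 : ∀ i, g^[i] (g a) ∈ Ψ := by
    intro i
    induction i with
    | zero => exact h
    | succ i ih => rw [Function.iterate_succ_apply']; exact hg _ ih
  obtain ⟨n, rfl⟩ := Nat.exists_eq_succ_of_ne_zero hN.ne'
  have h2 := hNg a ((F.root a).1 (hr _ h))
  rw [Nat.succ_eq_add_one, Function.iterate_succ_apply] at h2
  rw [← h2]
  exact h1 n

include hk in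
/-- **The order of the group of fixed points.** -/
theorem card_fix [IsAlgClosed k] (he : 0 < e) (hτ : IsFrob r e τ)
    (F : Fr cs hp.isCartan (TT D k) (XX D l k) τ g) {Ψ : Set (Fin l → ℤ)}
    (hP : Ψ ⊆ RGD.Pos cs hp.isCartan) (hΨ : ZCl cs hp.isCartan Ψ) (hg : ∀ a ∈ Ψ, g a ∈ Ψ) :
    Nat.card ↥(RGD.Sup (XX D l k) Ψ ⊓ fixedSubgroup τ) = (r ^ e) ^ Ψ.ncard := by
  have := finite_W hp cs
  have hroots : (RGD.Pos cs hp.isCartan).Finite :=
    (RGD.finite_roots (cs := cs) (h := hp.isCartan)).subset fun a ha => ha.1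
  obtain ⟨N, hN, hNg⟩ := exists_period F
  induction hn : Ψ.ncard using Nat.strong_induction_on generalizing Ψ with
  | _ n ih =>
  have hΨf : Ψ.Finite := hroots.subset hP
  rcases Ψ.eq_empty_or_nonempty with h0 | hne
  · have h2 : RGD.Sup (XX D l k) Ψ = ⊥ := by
      rw [eq_bot_iff]
      refine RGD.Sup_le fun z hz => ?_
      rw [h0] at hz
      exact absurd hz (Set.notMem_empty z)
    rw [h2, bot_inf_eq, Subgroup.card_bot, ← hn, h0, Set.ncard_empty, pow_zero]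
  -- the functional
  have hit : ∀ a ∈ Ψ, ∀ i, g^[i] a ∈ Ψ := by
    intro a ha i
    induction i with
    | zero => exact ha
    | succ i ih => rw [Function.iterate_succ_apply']; exact hg _ ih
  set φ := fhHom g N with hφdef
  have hφ : ∀ a ∈ Ψ, 0 < φ a := by
    intro a ha
    rw [hφdef, fhHom_apply]
    refine Finset.sum_pos (fun i _ => ?_) ⟨0, Finset.mem_range.2 hN⟩
    have := hP (hit a ha i)
    exact RGD.ht_pos this.1 this.2
  obtain ⟨a, ha, hmin⟩ := exists_min hΨf hne φ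
  have har := (hP ha).1
  have hφit : ∀ i, φ (g^[i] a) = φ a := by
    intro i
    induction i with
    | zero => rfl
    | succ i ih =>
      rw [Function.iterate_succ_apply', ← ih, hφdef, fhHom_apply, fhHom_apply]
      exact fh_g (hNg _ (hP (hit a ha i)).1)
  -- the orbit
  have hper : 0 < Function.minimalPeriod g a :=
    Function.minimalPeriod_pos_of_mem_periodicPts ⟨N, hN, hNg a har⟩
  set m := Function.minimalPeriod g a with hm
  have hga : g^[m] a = a := Function.iterate_minimalPeriod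
  set O : Set (Fin l → ℤ) := (fun i => g^[i] a) '' (Set.Iio m) with hO
  have hOΨ : O ⊆ Ψ := by
    rintro _ ⟨i, -, rfl⟩
    exact hit a ha i
  have hOf : O.Finite := hΨf.subset hOΨ
  have hOm : ∀ b ∈ O, ∀ a' ∈ Ψ, φ b ≤ φ a' := by
    rintro _ ⟨i, -, rfl⟩ a' ha'
    show φ (g^[i] a) ≤ φ a'
    rw [hφit]
    exact hmin a' ha'
  have hOc : O.ncard = m := by
    rw [hO, Set.InjOn.ncard_image, Set.ncard_eq_toFinset_card', Set.toFinset_Iio, Nat.card_Iio]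
    intro i hi j hj hij
    exact (Function.iterate_eq_iterate_iff_of_lt_minimalPeriod hi hj).1 hij
  have hmem : ∀ i, g^[i] a ∈ O := by
    intro i
    refine ⟨i % m, Nat.mod_lt _ hper, ?_⟩
    exact Function.iterate_mod_minimalPeriod_eq
  have hgO : ∀ x, g x ∈ O → x ∈ O := by
    rintro x ⟨i, -, hi⟩
    have h1 : g^[i] a = g x := hi
    rcases Nat.eq_zero_or_pos i with h2 | h2
    · rw [h2, Function.iterate_zero, id_eq] at h1
      obtain ⟨m', hm'⟩ := Nat.exists_eq_succ_of_ne_zero hper.ne'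
      rw [← hga, hm', Nat.succ_eq_add_one, Function.iterate_succ_apply'] at h1
      rw [← g.injective h1]
      exact hmem m'
    · obtain ⟨i', rfl⟩ := Nat.exists_eq_succ_of_ne_zero h2.ne'
      rw [Nat.succ_eq_add_one, Function.iterate_succ_apply'] at h1
      rw [← g.injective h1]
      exact hmem i'
  have hP' : Ψ \ O ⊆ RGD.Pos cs hp.isCartan := Set.sdiff_subset.trans hP
  have hΨ' : ZCl cs hp.isCartan (Ψ \ O) := zcl_diff hp cs hΨ hφ hOm
  have hg' : ∀ x ∈ Ψ \ O, g x ∈ Ψ \ O := fun x hx => ⟨hg x hx.1, fun h => hx.2 (hgO x h)⟩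
  have hcard' : (Ψ \ O).ncard + m = n := by
    rw [← hn, ← hOc]
    exact Set.ncard_sdiff_add_ncard_of_subset hOΨ hΨf
  have hih := ih (Ψ \ O).ncard (by omega) hP' hΨ' hg' rfl
  -- the coordinate
  set U := RGD.Sup (XX D l k) Ψ with hU
  have hex : ∀ u : ↥(U ⊓ fixedSubgroup τ), ∃ t : k, (xc hp a t)⁻¹ * (u : ↥(D.group k)) ∈
      RGD.Sup (XX D l k) (Ψ \ {a}) := fun u => exists_coord hp cs hP hΨ hφ ha hmin u.2.1
  choose κ hκ using hex
  let f : ↥(U ⊓ fixedSubgroup τ) →* Multiplicative k := MonoidHom.mk' (fun u => Multiplicative.ofAdd (κ u)) (by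
    intro u v
    rw [← ofAdd_add]
    congr 1
    exact coord_unique hp cs hk r hP hΨ hφ ha hmin (hκ (u * v)) (coord_mul hp cs hP hΨ hφ ha hmin (hκ u) (hκ v)))
  have hf : ∀ u, f u = Multiplicative.ofAdd (κ u) := fun u => rfl
  obtain ⟨gm, Fm, hgm⟩ := F.pow m
  have hτm := hτ.pow m
  obtain ⟨c, hc0, hc⟩ := HX.fr_xc hp cs hτm Fm har
  rw [hgm a, hga] at hc
  have hfix : ∀ (i : ℕ) (u : ↥(D.group k)), τ u = u → (τ ^ i) u = u := by
    intro i u hu
    induction i with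
    | zero => rw [pow_zero]; rfl
    | succ i ih => rw [pow_succ', MulAut.mul_apply, ih, hu]
  have hpowmem : ∀ (i : ℕ) (u : ↥(D.group k)), u ∈ RGD.Sup (XX D l k) (Ψ \ {a}) →
      (τ ^ i) u ∈ RGD.Sup (XX D l k) (Ψ \ {g^[i] a}) := by
    intro i u hu
    obtain ⟨gi, Fi, hgi⟩ := F.pow i
    refine (Fi.mem_Sup (S := Ψ \ {a}) (S' := Ψ \ {g^[i] a}) (fun x hx => (hP hx.1).1) (fun x => ?_) u).2 hu
    rw [hgi x]
    have h1 : g^[i] x ∈ Ψ ↔ x ∈ Ψ := by
      clear hgi Fi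
      induction i with
      | zero => exact Iff.rfl
      | succ i ih => rw [Function.iterate_succ_apply', iter_iff (hp := hp) F (fun a ha => (hP ha).1) hg, ih]
    constructor
    · rintro ⟨h2, h3⟩
      refine ⟨h1.1 h2, fun h4 => h3 ?_⟩
      rw [Set.mem_singleton_iff] at h4 ⊢
      rw [h4]
    · rintro ⟨h2, h3⟩
      refine ⟨h1.2 h2, fun h4 => h3 ?_⟩
      rw [Set.mem_singleton_iff] at h4 ⊢
      exact (g.injective.iterate i) h4
  -- the kernel
  have hker : Nat.card ↥f.ker = (r ^ e) ^ (Ψ \ O).ncard := by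
    rw [← hih]
    refine Nat.card_congr (Equiv.ofBijective (fun u : ↥f.ker => (⟨(u : ↥(U ⊓ fixedSubgroup τ)), ?_⟩ :
      ↥(RGD.Sup (XX D l k) (Ψ \ O) ⊓ fixedSubgroup τ))) ⟨?_, ?_⟩)
    · refine Subgroup.mem_inf.2 ⟨?_, u.1.2.2⟩
      refine mem_of_forall hp cs hk r hP hΨ hφ hOΨ hOf hOm u.1.2.1 ?_
      rintro _ ⟨i, -, rfl⟩
      have h1 : κ u.1 = 0 := by
        have h2 : f u.1 = 1 := u.2
        rw [hf] at h2
        exact Multiplicative.ofAdd.injective h2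
      have h2 := hκ u.1
      have h3 : xc hp a (0 : k) = 1 := by
        have := xc_add hp cs har (0 : k) 0
        rw [add_zero, left_eq_mul] at this
        exact this
      rw [h1, h3, inv_one, one_mul] at h2
      have h4 := hpowmem i _ h2
      rwa [hfix i _ u.1.2.2] at h4
    · intro u v huv
      apply Subtype.ext
      apply Subtype.ext
      exact congrArg (fun z : ↥(RGD.Sup (XX D l k) (Ψ \ O) ⊓ fixedSubgroup τ) => (z : ↥(D.group k))) huv
    · rintro ⟨u, hu⟩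
      have hu1 : u ∈ U := RGD.Sup_mono Set.sdiff_subset hu.1
      refine ⟨⟨⟨u, hu1, hu.2⟩, ?_⟩, rfl⟩
      rw [MonoidHom.mem_ker, hf, ← ofAdd_zero]
      congr 1
      refine coord_unique hp cs hk r hP hΨ hφ ha hmin (hκ _) ?_
      have h3 : xc hp a (0 : k) = 1 := by
        have := xc_add hp cs har (0 : k) 0
        rw [add_zero, left_eq_mul] at this
        exact this
      rw [h3, inv_one, one_mul]
      refine RGD.Sup_mono (S := Ψ \ O) (S' := Ψ \ {a}) (fun x hx => ⟨hx.1, fun h => hx.2 ?_⟩) hu.1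
      rw [Set.mem_singleton_iff] at h
      rw [h]
      exact hmem 0
  -- the range
  have hrange : Nat.card ↥f.range = r ^ (m * e) := by
    rw [← card_twist (k := k) (r := r) (s := m * e) (Nat.mul_pos hper he) hc0]
    symm
    refine Nat.card_congr (Equiv.ofBijective (fun t : {t : k // c * t ^ r ^ (m * e) = t} =>
      (⟨Multiplicative.ofAdd t.1, ?_⟩ : ↥f.range)) ⟨?_, ?_⟩)
    · obtain ⟨t, ht⟩ := t
      -- the element
      have hy : (τ ^ m) (xc hp a t) = xc hp a t := by rw [hc, ht]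
      have hyU : ∀ i, (τ ^ i) (xc hp a t) ∈ XX D l k (g^[i] a) := by
        intro i
        obtain ⟨gi, Fi, hgi⟩ := F.pow i
        rw [← hgi a]
        exact (Fi.map a har _).2 (xc_mem hp cs har t)
      have hyU' : ∀ i, (τ ^ i) (xc hp a t) ∈ U := fun i => RGD.le_Sup (hit a ha i) (hyU i)
      set u0 := op τ (xc hp a t) m with hu0
      have hu0U : u0 ∈ U := op_mem fun j _ => hyU' j
      have hτu0 : τ u0 = (xc hp a t)⁻¹ * (u0 * xc hp a t) := by
        have h1 := op_succ τ (xc hp a t) m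
        have h2 := op_succ' τ (xc hp a t) m
        rw [h1, hy] at h2
        rw [hu0, h2]; group
      have hdef : u0⁻¹ * τ u0 ∈ RGD.Sup (XX D l k) (Ψ \ O) := by
        rw [hτu0]
        have e1 : u0⁻¹ * ((xc hp a t)⁻¹ * (u0 * xc hp a t)) = (xc hp a t * u0)⁻¹ * (u0 * xc hp a t) := by group
        rw [e1]
        refine mem_of_forall hp cs hk r hP hΨ hφ hOΨ hOf hOm ?_ fun b hb =>
          comm_mem hp cs hP hΨ hφ (hOΨ hb) (hOm b hb) hu0U (hyU' 0)
        exact Subgroup.mul_mem _ (Subgroup.inv_mem _ (Subgroup.mul_mem _ (hyU' 0) hu0U)) (Subgroup.mul_mem _ hu0U (hyU' 0))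
      obtain ⟨y, hy', ey⟩ := lang_fr hp cs he hτ F (S := Ψ \ O) (fun x hx => (hP' hx).1) hg' hdef
      have hfx : τ (u0 * y⁻¹) = u0 * y⁻¹ := by
        rw [map_mul, map_inv]
        have h1 : τ u0 = u0 * (y⁻¹ * τ y) := by rw [← ey]; group
        rw [h1]; group
      have hyΨ : y ∈ U := RGD.Sup_mono Set.sdiff_subset hy'
      refine ⟨⟨u0 * y⁻¹, Subgroup.mul_mem _ hu0U (Subgroup.inv_mem _ hyΨ), hfx⟩, ?_⟩
      rw [hf]
      congr 1
      refine coord_unique hp cs hk r hP hΨ hφ ha hmin (hκ _) ?_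
      have hsub : RGD.Sup (XX D l k) (Ψ \ O) ≤ RGD.Sup (XX D l k) (Ψ \ {a}) :=
        RGD.Sup_mono (S := Ψ \ O) (S' := Ψ \ {a}) fun x hx => ⟨hx.1, fun h => hx.2 (by
          rw [Set.mem_singleton_iff] at h
          rw [h]
          exact hmem 0)⟩
      show (xc hp a t)⁻¹ * (u0 * y⁻¹) ∈ _
      rw [← mul_assoc]
      refine mul_mem ?_ (inv_mem (hsub hy'))
      obtain ⟨m', hm'⟩ := Nat.exists_eq_succ_of_ne_zero hper.ne'
      have h5 : ∀ j < m, (xc hp a t)⁻¹ * op τ (xc hp a t) (j + 1) ∈ RGD.Sup (XX D l k) (Ψ \ {a}) := by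
        intro j
        induction j with
        | zero =>
          intro _
          rw [op_succ]
          have h6 : op τ (xc hp a t) 0 = 1 := rfl
          rw [h6, pow_zero, one_mul]
          show (xc hp a t)⁻¹ * xc hp a t ∈ _
          rw [inv_mul_cancel]
          exact one_mem _
        | succ j ihj =>
          intro hj
          rw [op_succ, ← mul_assoc]
          refine mul_mem (ihj (by omega)) ?_
          refine RGD.le_Sup (S := Ψ \ {a}) ⟨hit a ha _, fun h => ?_⟩ (hyU (j + 1))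
          rw [Set.mem_singleton_iff] at h
          have h7 := Function.IsPeriodicPt.minimalPeriod_le (Nat.succ_pos j)
            (show Function.IsPeriodicPt g (j + 1) a from h)
          omega
      have h6 := h5 m' (by omega)
      rw [hu0, hm']
      exact h6
    · intro t t' htt
      apply Subtype.ext
      exact Multiplicative.ofAdd.injective (congrArg (fun z : ↥f.range => (z : Multiplicative k)) htt)
    · rintro ⟨_, u, rfl⟩
      refine ⟨⟨κ u, ?_⟩, Subtype.ext (hf u).symm⟩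
      refine coord_unique hp cs hk r hP hΨ hφ ha hmin (u := (u : ↥(D.group k))) ?_ (hκ u)
      have h1 := hpowmem m _ (hκ u)
      rw [hga, map_mul, map_inv, hc, hfix m _ u.2.2] at h1
      exact h1
  have hfinal : Nat.card ↥(U ⊓ fixedSubgroup τ) = Nat.card ↥f.ker * Nat.card ↥f.range := by
    rw [← Subgroup.index_ker f, Subgroup.card_mul_index]
  rw [hfinal, hker, hrange, ← hcard', mul_comm m e, pow_add, pow_mul r e m]

end Fixed

end Cfsg.Agent.H461.E2.Fix
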