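import Cfsg.Agent.BpExc.NChev

/-!
# Joins of root groups over sets of positive roots closed under integral combinations (S4880, E2)

* `ZCl Ψ` : `Ψ` contains all roots `i x + j y`, `x y ∈ Ψ`, `i j > 0` integers;
* `ZComm X` : the commutator relations with integral coefficients;
* `mem_peel` : `Sup X Ψ = X b * Sup X (Ψ \ {b})`, `b ∈ Ψ` minimal for a functional positive on `Ψ`;
* `inf_eq_bot` : `X b ⊓ Sup X (Ψ \ {b}) = ⊥` (finite level, by counting).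
-/

set_option autoImplicit false
set_option linter.unusedSectionVars false

namespace Cfsg.Agent.H461.E2.Sup

open CoxeterSystem Cfsg.Agent.ChevalleyStructure.CoxeterGeom Cfsg.Agent.Tits.Roots Cfsg.Agent.Tits.Core
  Cfsg.Agent.Nodes.Reps Cfsg.Agent.Nodes.BNOf Cfsg.Agent.BpExc.NInst
open scoped commutatorElement

/-- The order of a product of two disjoint subgroups, lower bound. -/
theorem card_mul_le {Y : Type*} [Group Y] {A B C : Subgroup Y} (hA : A ≤ C) (hB : B ≤ C) (hd : A ⊓ B = ⊥)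
    [Finite ↥C] : Nat.card A * Nat.card B ≤ Nat.card C := by
  rw [← Nat.card_prod]
  refine Nat.card_le_card_of_injective (fun x : ↥A × ↥B => (⟨x.1 * x.2, mul_mem (hA x.1.2) (hB x.2.2)⟩ : ↥C)) ?_
  rintro ⟨⟨a, ha⟩, ⟨b, hb⟩⟩ ⟨⟨a', ha'⟩, ⟨b', hb'⟩⟩ e
  have e1 : a * b = a' * b' := congrArg Subtype.val e
  have e2 : a'⁻¹ * a = b' * b⁻¹ := by
    rw [inv_mul_eq_iff_eq_mul, ← mul_assoc, ← e1, mul_inv_cancel_right]
  have e3 : a'⁻¹ * a ∈ A ⊓ B :=
    Subgroup.mem_inf.2 ⟨mul_mem (inv_mem ha') ha, by rw [e2]; exact mul_mem hb' (inv_mem hb)⟩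
  rw [hd, Subgroup.mem_bot] at e3
  have e4 : a = a' := (inv_mul_eq_one.1 e3).symm
  subst e4
  have e5 : b = b' := mul_left_cancel e1
  subst e5
  rfl

/-- The order of a product of two subgroups, upper bound. -/
theorem card_le_mul {Y : Type*} [Group Y] {A B C : Subgroup Y} (h : ∀ g ∈ C, ∃ a ∈ A, ∃ b ∈ B, g = a * b)
    [Finite ↥A] [Finite ↥B] : Nat.card C ≤ Nat.card A * Nat.card B := by
  rw [← Nat.card_prod]
  have h' : ∀ g : ↥C, ∃ x : ↥A × ↥B, (g : Y) = x.1 * x.2 := by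
    rintro ⟨g, hg⟩
    obtain ⟨a, ha, b, hb, e⟩ := h g hg
    exact ⟨(⟨a, ha⟩, ⟨b, hb⟩), e⟩
  choose F hF using h'
  refine Nat.card_le_card_of_injective F ?_
  intro a b hab
  apply Subtype.ext
  rw [hF a, hF b, hab]

/-- If the orders multiply, the product of the two subgroups is direct as a set. -/
theorem inf_eq_bot_of_card {Y : Type*} [Group Y] {A B C : Subgroup Y} (hA : A ≤ C) (hB : B ≤ C)
    (h : ∀ g ∈ C, ∃ a ∈ A, ∃ b ∈ B, g = a * b) [Finite ↥C] (hc : Nat.card A * Nat.card B ≤ Nat.card C) :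
    A ⊓ B = ⊥ := by
  have hfA : Finite ↥A := Finite.of_injective (Subgroup.inclusion hA) (Subgroup.inclusion_injective hA)
  have hfB : Finite ↥B := Finite.of_injective (Subgroup.inclusion hB) (Subgroup.inclusion_injective hB)
  let F : ↥A × ↥B → ↥C := fun x => ⟨x.1 * x.2, mul_mem (hA x.1.2) (hB x.2.2)⟩
  have hsurj : Function.Surjective F := by
    rintro ⟨g, hg⟩
    obtain ⟨a, ha, b, hb, e⟩ := h g hg
    exact ⟨(⟨a, ha⟩, ⟨b, hb⟩), Subtype.ext e.symm⟩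
  have hcard : Nat.card (↥A × ↥B) = Nat.card ↥C := by
    apply le_antisymm
    · rw [Nat.card_prod]; exact hc
    · exact Nat.card_le_card_of_surjective F hsurj
  have hbij := (Nat.bijective_iff_surjective_and_card F).2 ⟨hsurj, hcard⟩
  rw [eq_bot_iff]
  rintro y ⟨hyA, hyB⟩
  have h1 : F (⟨y, hyA⟩, 1) = F (1, ⟨y, hyB⟩) := Subtype.ext (by
    show y * 1 = 1 * y
    rw [mul_one, one_mul])
  have h2 := congrArg Prod.fst (hbij.1 h1)
  rw [Subgroup.mem_bot]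
  exact congrArg Subtype.val h2

variable {I W Y : Type*} [Fintype I] [DecidableEq I] [Group W] [Group Y] {M : CoxeterMatrix I}
  {cs : CoxeterSystem M W} {A : I → I → ℤ} {h : IsCartan M A}

/-- `Ψ` is closed under integral combinations. -/
def ZCl (cs : CoxeterSystem M W) (h : IsCartan M A) (Ψ : Set (I → ℤ)) : Prop :=
  ∀ x ∈ Ψ, ∀ y ∈ Ψ, ∀ z, IsRoot cs h z → (∃ i j : ℕ, 0 < i ∧ 0 < j ∧ z = i • x + j • y) → z ∈ Ψ

/-- The commutator relations with integral coefficients. -/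
def ZComm (cs : CoxeterSystem M W) (h : IsCartan M A) (X : (I → ℤ) → Subgroup Y) : Prop :=
  ∀ x y, IsRoot cs h x → IsRoot cs h y → x ≠ y → x ≠ -y → ∀ a ∈ X x, ∀ b ∈ X y,
    ⁅a, b⁆ ∈ RGD.Sup X {z | IsRoot cs h z ∧ ∃ i j : ℕ, 0 < i ∧ 0 < j ∧ z = i • x + j • y}

section Comb

variable {φ : (I → ℤ) →+ ℤ} {Ψ : Set (I → ℤ)} {b : I → ℤ}

theorem lt_comb {x y : I → ℤ} (hx : 0 < φ x) (hy : 0 < φ y) {i j : ℕ} (hi : 0 < i) (hj : 0 < j) :
    φ x < φ (i • x + j • y) := by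
  rw [map_add, map_nsmul, map_nsmul, nsmul_eq_mul, nsmul_eq_mul]
  have h1 : (1 : ℤ) ≤ i := by exact_mod_cast hi
  have h2 : (1 : ℤ) ≤ j := by exact_mod_cast hj
  nlinarith

theorem ZCl.diff (hΨ : ZCl cs h Ψ) (hφ : ∀ a ∈ Ψ, 0 < φ a) (hb : ∀ a ∈ Ψ, φ b ≤ φ a) : ZCl cs h (Ψ \ {b}) := by
  rintro x ⟨hx, hxb⟩ y ⟨hy, hyb⟩ z hz ⟨i, j, hi, hj, rfl⟩
  refine ⟨hΨ x hx y hy _ hz ⟨i, j, hi, hj, rfl⟩, fun e => ?_⟩
  rw [Set.mem_singleton_iff] at e
  have h1 := lt_comb (hφ x hx) (hφ y hy) hi hj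
  rw [e] at h1
  exact absurd (hb x hx) (not_le.2 h1)

end Comb

section Peel

variable {X : (I → ℤ) → Subgroup Y} {φ : (I → ℤ) →+ ℤ} {Ψ : Set (I → ℤ)} {b : I → ℤ}

theorem le_normalizer (hX : ZComm cs h X) (hr : ∀ a ∈ Ψ, IsRoot cs h a) (hΨ : ZCl cs h Ψ)
    (hφ : ∀ a ∈ Ψ, 0 < φ a) (hbΨ : b ∈ Ψ) (hb : ∀ a ∈ Ψ, φ b ≤ φ a) :
    X b ≤ Subgroup.normalizer (RGD.Sup X (Ψ \ {b}) : Set Y) := by
  have key : ∀ a ∈ X b, cj a (RGD.Sup X (Ψ \ {b})) ≤ RGD.Sup X (Ψ \ {b}) := by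
    intro a ha
    rw [RGD.cj_Sup]
    refine iSup_le ?_
    rintro ⟨y, hy, hyb⟩ u hu
    rw [mem_cj] at hu
    have hne : b ≠ y := fun e => hyb (by rw [Set.mem_singleton_iff]; exact e.symm)
    have hne' : b ≠ -y := fun e => by
      have h1 := hφ b hbΨ
      have h2 := hφ y hy
      rw [e, map_neg] at h1
      omega
    have h1 := hX b y (hr b hbΨ) (hr y hy) hne hne' a ha _ hu
    have h2 : u = ⁅a, a⁻¹ * u * a⁆ * (a⁻¹ * u * a) := by
      rw [commutatorElement_def]; group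
    rw [h2]
    refine mul_mem (RGD.Sup_mono ?_ h1) (RGD.le_Sup (S := Ψ \ {b}) ⟨hy, hyb⟩ hu)
    rintro z ⟨hz, i, j, hi, hj, rfl⟩
    refine ⟨hΨ b hbΨ y hy _ hz ⟨i, j, hi, hj, rfl⟩, fun e => ?_⟩
    rw [Set.mem_singleton_iff] at e
    have h3 := lt_comb (hφ b hbΨ) (hφ y hy) hi hj
    rw [e] at h3
    exact lt_irrefl _ h3
  intro a ha
  rw [mem_normalizer_iff_cj]
  apply le_antisymm (key a ha)
  have h1 := key a⁻¹ (inv_mem ha)
  have h2 := cj_mono a h1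
  rwa [cj_cj_inv] at h2

/-- **Peeling.** -/
theorem mem_peel (hX : ZComm cs h X) (hr : ∀ a ∈ Ψ, IsRoot cs h a) (hΨ : ZCl cs h Ψ)
    (hφ : ∀ a ∈ Ψ, 0 < φ a) (hbΨ : b ∈ Ψ) (hb : ∀ a ∈ Ψ, φ b ≤ φ a) {u : Y} (hu : u ∈ RGD.Sup X Ψ) :
    ∃ a ∈ X b, ∃ v ∈ RGD.Sup X (Ψ \ {b}), u = a * v := by
  have h1 : RGD.Sup X Ψ ≤ X b ⊔ RGD.Sup X (Ψ \ {b}) := by
    refine RGD.Sup_le fun z hz => ?_
    by_cases hzb : z = b
    · rw [hzb]; exact le_sup_left
    · exact (RGD.le_Sup (S := Ψ \ {b}) ⟨hz, hzb⟩).trans le_sup_right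
  have h2 : u ∈ ((X b ⊔ RGD.Sup X (Ψ \ {b}) : Subgroup Y) : Set Y) := h1 hu
  rw [Subgroup.coe_mul_of_left_le_normalizer_right _ _ (le_normalizer hX hr hΨ hφ hbΨ hb), Set.mem_mul] at h2
  obtain ⟨a, ha, v, hv, e⟩ := h2
  exact ⟨a, ha, v, hv, e.symm⟩

/-- A subset of the positive roots has an element of minimal value. -/
theorem exists_min (hfin : Ψ.Finite) (hne : Ψ.Nonempty) (φ : (I → ℤ) →+ ℤ) :
    ∃ b ∈ Ψ, ∀ a ∈ Ψ, φ b ≤ φ a := by
  obtain ⟨b, hb, hmin⟩ := hfin.exists_minimalFor φ Ψ hne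
  refine ⟨b, hb, fun a ha => ?_⟩
  rcases le_total (φ b) (φ a) with h1 | h1
  · exact h1
  · exact hmin ha h1

end Peel

/-! ### finite level -/

section Fin

variable {p : ℕ} {T : Subgroup Y} {n : I → Y} {X : (I → ℤ) → Subgroup Y} (R : RGD cs h p T n X) {q : ℕ}
  (hq : ∀ a, IsRoot cs h a → Nat.card ↥(X a) = q) (hfin : Finite ↥(RGD.Sup X (RGD.Pos cs h)))

include hfin in
theorem finite_Sup {O : Set (I → ℤ)} (hO : O ⊆ RGD.Pos cs h) : Finite ↥(RGD.Sup X O) :=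
  Finite.of_injective (Subgroup.inclusion (RGD.Sup_mono hO)) (Subgroup.inclusion_injective _)

include hfin in
theorem finite_X {a : I → ℤ} (ha : a ∈ RGD.Pos cs h) : Finite ↥(X a) :=
  Finite.of_injective (Subgroup.inclusion (RGD.le_Sup (X := X) ha)) (Subgroup.inclusion_injective _)

include R hq hfin in
theorem card_ge [Finite W] {O : Set (I → ℤ)} (hO : O ⊆ RGD.Pos cs h) :
    q ^ O.ncard ≤ Nat.card ↥(RGD.Sup X O) := by
  have hroots : (RGD.Pos cs h).Finite := (RGD.finite_roots (cs := cs) (h := h)).subset fun a ha => ha.1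
  induction hn : O.ncard generalizing O with
  | zero =>
    rw [pow_zero]
    have := finite_Sup hfin hO
    exact Nat.card_pos
  | succ m ih =>
    have hOf : O.Finite := hroots.subset hO
    have hne : O.Nonempty := by
      rw [← Set.ncard_pos hOf]; omega
    obtain ⟨x, hx, S', hS', hinf⟩ := exists_first R hne hO
    have h1 : (O \ {x}).ncard = m := by
      rw [Set.ncard_sdiff_singleton_of_mem hx, hn]; rfl
    have h2 := ih (O := O \ {x}) (Set.sdiff_subset.trans hO) h1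
    have := finite_Sup hfin hO
    have h3 := card_mul_le (A := X x) (B := RGD.Sup X (O \ {x})) (C := RGD.Sup X O) (RGD.le_Sup hx)
      (RGD.Sup_mono Set.sdiff_subset) (by
        rw [eq_bot_iff, ← hinf]
        exact inf_le_inf_left _ (RGD.Sup_mono hS'))
    rw [hq x (hO hx).1] at h3
    rw [pow_succ, mul_comm]
    exact (Nat.mul_le_mul_left q h2).trans h3

include hq hfin in
theorem card_le [Finite W] (hX : ZComm cs h X) {Ψ : Set (I → ℤ)} (hP : Ψ ⊆ RGD.Pos cs h) (hΨ : ZCl cs h Ψ) :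
    Nat.card ↥(RGD.Sup X Ψ) ≤ q ^ Ψ.ncard := by
  have hroots : (RGD.Pos cs h).Finite := (RGD.finite_roots (cs := cs) (h := h)).subset fun a ha => ha.1
  induction hn : Ψ.ncard generalizing Ψ with
  | zero =>
    have h1 : Ψ = ∅ := (Set.ncard_eq_zero (hroots.subset hP)).1 hn
    have h2 : RGD.Sup X Ψ = ⊥ := by
      rw [eq_bot_iff]
      refine RGD.Sup_le fun z hz => ?_
      rw [h1] at hz
      exact absurd hz (Set.notMem_empty z)
    rw [h2, Subgroup.card_bot, pow_zero]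
  | succ m ih =>
    have hΨf : Ψ.Finite := hroots.subset hP
    have hne : Ψ.Nonempty := by
      rw [← Set.ncard_pos hΨf]; omega
    have hφ : ∀ a ∈ Ψ, 0 < Nodes.Slope.htHom a := fun a ha => RGD.ht_pos (hP ha).1 (hP ha).2
    obtain ⟨b, hbΨ, hb⟩ := exists_min hΨf hne Nodes.Slope.htHom
    have h1 : (Ψ \ {b}).ncard = m := by
      rw [Set.ncard_sdiff_singleton_of_mem hbΨ, hn]; rfl
    have h2 := ih (Ψ := Ψ \ {b}) (Set.sdiff_subset.trans hP) (hΨ.diff hφ hb) h1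
    have := finite_X hfin (hP hbΨ)
    have := finite_Sup hfin (Set.sdiff_subset.trans hP : Ψ \ {b} ⊆ RGD.Pos cs h)
    have h3 := card_le_mul (A := X b) (B := RGD.Sup X (Ψ \ {b})) (C := RGD.Sup X Ψ) fun g hg =>
      mem_peel hX (fun a ha => (hP ha).1) hΨ hφ hbΨ hb hg
    rw [hq b (hP hbΨ).1] at h3
    rw [pow_succ, mul_comm]
    exact h3.trans (Nat.mul_le_mul_left q h2)

include R hq hfin in
/-- **Uniqueness of the lowest component.** -/
theorem inf_eq_bot [Finite W] (hX : ZComm cs h X) {Ψ : Set (I → ℤ)} (hP : Ψ ⊆ RGD.Pos cs h) (hΨ : ZCl cs h Ψ)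
    {φ : (I → ℤ) →+ ℤ} (hφ : ∀ a ∈ Ψ, 0 < φ a) {b : I → ℤ} (hbΨ : b ∈ Ψ) (hb : ∀ a ∈ Ψ, φ b ≤ φ a) :
    X b ⊓ RGD.Sup X (Ψ \ {b}) = ⊥ := by
  have hroots : (RGD.Pos cs h).Finite := (RGD.finite_roots (cs := cs) (h := h)).subset fun a ha => ha.1
  have hΨf : Ψ.Finite := hroots.subset hP
  have := finite_Sup hfin hP
  refine inf_eq_bot_of_card (C := RGD.Sup X Ψ) (RGD.le_Sup hbΨ) (RGD.Sup_mono Set.sdiff_subset)
    (fun g hg => mem_peel hX (fun a ha => (hP ha).1) hΨ hφ hbΨ hb hg) ?_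
  refine le_trans ?_ (card_ge R hq hfin hP)
  have h1 := card_le hq hfin hX (Set.sdiff_subset.trans hP : Ψ \ {b} ⊆ RGD.Pos cs h) (hΨ.diff hφ hb)
  rw [hq b (hP hbΨ).1]
  refine (Nat.mul_le_mul_left q h1).trans ?_
  have h2 : Ψ.ncard = (Ψ \ {b}).ncard + 1 := by
    rw [Set.ncard_sdiff_singleton_of_mem hbΨ]
    have := (Set.ncard_pos hΨf).2 ⟨b, hbΨ⟩
    omega
  rw [h2, pow_succ, mul_comm]

end Fin

end Cfsg.Agent.H461.E2.Sup
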